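import Groth.Agent.QCoh.Ab.MV
import Groth.Agent.QCoh.Bound
import Groth.Agent.InvUfdLib.Trivial
import Groth.Prelude.Def_CurvBase

/-! The first cohomology through a covering by two affine opens. -/

noncomputable section

set_option backward.isDefEq.respectTransparency false
set_option backward.isDefEq.respectTransparency.types false

universe u

open CategoryTheory CategoryTheory.Limits AlgebraicGeometry TopologicalSpace Opposite

namespace Groth.Agent.CurveZeta

section

variable {X : TopCat.{u}} (F : CohTop.Ab X) {W V : Opens X} (h : W ≤ V)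

theorem huZero_res (x : CohTop.HU F 0 V) :
    SiteBase.huZero F W (CohTop.res F 0 h x) = (F.obj.map (homOfLE h).op).hom (SiteBase.huZero F V x) := by
  obtain ⟨φ, rfl⟩ : ∃ φ, Abelian.Ext.mk₀ φ = x :=
    ⟨Abelian.Ext.addEquiv₀ x, Abelian.Ext.addEquiv₀.symm_apply_apply x⟩
  show SiteBase.huZero F W ((Abelian.Ext.mk₀ _).comp (Abelian.Ext.mk₀ φ) (zero_add 0)) = _
  rw [Abelian.Ext.mk₀_comp_mk₀, SiteBase.huZero_mk₀, SiteBase.huZero_mk₀]
  exact SiteBase.secEquiv_freeSheafMap (J := Opens.grothendieckTopology X) (homOfLE h) φ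

end

theorem exists_delta {T : TopCat.{u}} (F : CohTop.Ab T) (U V : Opens T) (hUV : U ⊔ V = ⊤)
    (hU : Subsingleton (CohTop.HU F 1 U)) (hV : Subsingleton (CohTop.HU F 1 V)) :
    ∃ d : F.obj.obj (op (U ⊓ V)) →+ CohTop.H F 1, Function.Surjective d ∧
      ∀ t, d t = 0 ↔ ∃ (a : F.obj.obj (op U)) (b : F.obj.obj (op V)),
        t = F.obj.map (homOfLE (inf_le_left : U ⊓ V ≤ U)).op a -
          F.obj.map (homOfLE (inf_le_right : U ⊓ V ≤ V)).op b := by
  let S := Opens.mayerVietorisSquare U V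
  let e : CohTop.HU F 1 (U ⊔ V) ≃+ CohTop.H F 1 :=
    SiteBase.huTerminalEquiv (hUV ▸ isTerminalTop) F 1
  let δ : CohTop.HU F 0 (U ⊓ V) →+ CohTop.HU F 1 (U ⊔ V) := (S.δ F 0 1 rfl).hom
  refine ⟨e.toAddMonoidHom.comp (δ.comp (SiteBase.huZero F (U ⊓ V)).symm.toAddMonoidHom), ?_, fun t => ?_⟩
  · have hex := (S.sequence_exact F 0 1 rfl).exact 2
    rw [ShortComplex.ab_exact_iff] at hex
    have hsub : Subsingleton (F.H' 1 S.X₂ ⊞ F.H' 1 S.X₃ : AddCommGrpCat.{u}) :=
      have : Subsingleton ((F.H' 1 S.X₂ : AddCommGrpCat.{u}) × (F.H' 1 S.X₃ : AddCommGrpCat.{u})) :=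
        ⟨fun a b => Prod.ext (hU.elim _ _) (hV.elim _ _)⟩
      (AddCommGrpCat.biprodIsoProd _ _).addCommGroupIsoToAddEquiv.toEquiv.subsingleton
    intro y
    obtain ⟨y', rfl⟩ := e.surjective y
    obtain ⟨x, hx⟩ := hex y' (hsub.elim _ _)
    refine ⟨SiteBase.huZero F (U ⊓ V) x, ?_⟩
    show e (δ ((SiteBase.huZero F (U ⊓ V)).symm (SiteBase.huZero F (U ⊓ V) x))) = e y'
    rw [AddEquiv.symm_apply_apply]
    exact congrArg e hx
  · have hex := (S.sequence_exact F 0 1 rfl).exact 1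
    rw [ShortComplex.ab_exact_iff] at hex
    have hres : ∀ (a : CohTop.HU F 0 U) (b : CohTop.HU F 0 V),
        SiteBase.huZero F (U ⊓ V) (CohTop.res F 0 inf_le_left a - CohTop.res F 0 inf_le_right b) =
          F.obj.map (homOfLE (inf_le_left : U ⊓ V ≤ U)).op (SiteBase.huZero F U a) -
            F.obj.map (homOfLE (inf_le_right : U ⊓ V ≤ V)).op (SiteBase.huZero F V b) := fun a b => by
      rw [map_sub]
      exact congrArg₂ (· - ·) (huZero_res F inf_le_left a) (huZero_res F inf_le_right b)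
    show e (δ ((SiteBase.huZero F (U ⊓ V)).symm t)) = 0 ↔ _
    rw [EmbeddingLike.map_eq_zero_iff]
    constructor
    · intro h
      obtain ⟨y, hy⟩ := hex _ h
      obtain ⟨⟨a, b⟩, rfl⟩ := (AddCommGrpCat.biprodIsoProd (F.H' 0 S.X₂) (F.H' 0 S.X₃)).addCommGroupIsoToAddEquiv.symm.surjective y
      refine ⟨SiteBase.huZero F U a, SiteBase.huZero F V b, ?_⟩
      rw [← hres]
      apply (SiteBase.huZero F (U ⊓ V)).symm.injective
      rw [AddEquiv.symm_apply_apply]
      exact hy.symm.trans (S.fromBiprod_biprodIsoProd_inv_apply F a b)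
    · rintro ⟨a, b, rfl⟩
      obtain ⟨a, rfl⟩ := (SiteBase.huZero F U).surjective a
      obtain ⟨b, rfl⟩ := (SiteBase.huZero F V).surjective b
      rw [← hres, AddEquiv.symm_apply_apply]
      have h1 := S.fromBiprod_biprodIsoProd_inv_apply F (n := 0) a b
      refine (congrArg δ h1.symm).trans ?_
      exact ConcreteCategory.congr_hom (S.fromBiprod_δ F 0 1 rfl) _

end Groth.Agent.CurveZeta
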