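import Groth.Agent.FFLib.RR
import Groth.Prelude.Def_AdFn

/-! `O_{S ∪ T} / (O_S + O_T)` is the space of repartitions modulo `A(0) + K`. -/

noncomputable section

universe u

open FunFld Groth.Agent

namespace Groth.Agent.CurveZeta

variable {k K : Type u} [Field k] [Field K] [Algebra k K]

theorem exists_twoSets_hom (hK : IsFunctionField k K) (S T : Finset (Place k K)) (hS : S.Nonempty)
    (hT : T.Nonempty) (hST : Disjoint S T) :
    ∃ φ : Subalgebra.toSubmodule (AdFn.SInt ((S : Set (Place k K)) ∪ T)) →ₗ[k]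
        adele k K ⧸ ADK (0 : Divisor k K),
      Function.Surjective φ ∧ ∀ x, φ x = 0 ↔ ∃ a ∈ AdFn.SInt (S : Set (Place k K)),
        ∃ b ∈ AdFn.SInt (T : Set (Place k K)), x.1 = a + b := by
  classical
  have hF := hK.1
  let ind : K →ₗ[k] (Place k K → K) := LinearMap.pi fun P => if P ∈ S then LinearMap.id else 0
  have hind : ∀ (x : K) (P : Place k K), ind x P = if P ∈ S then x else 0 := fun x P => by
    by_cases h : P ∈ S <;> simp [ind, h]
  have hmemA : ∀ x : K, ind x ∈ adele k K := fun x => by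
    rw [FFLib.mem_adele]
    refine S.finite_toSet.subset fun Q hQ => ?_
    by_contra hne
    exact hQ (by simp [hind, show Q ∉ S from hne])
  let φ : Subalgebra.toSubmodule (AdFn.SInt ((S : Set (Place k K)) ∪ T)) →ₗ[k]
      adele k K ⧸ ADK (0 : Divisor k K) :=
    (Submodule.mkQ (ADK (0 : Divisor k K))).comp ((ind.codRestrict _ hmemA).comp (Submodule.subtype _))
  -- large divisors supported on one of the sets
  have hbig : ∀ R : Finset (Place k K), R.Nonempty → ∃ E : Divisor k K, (∀ Q, Q ∉ R → E Q = 0) ∧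
      ∀ a ∈ adele k K, a ∈ AD E ⊔ LinearMap.range (diag k K) := by
    rintro R ⟨P, hP⟩
    refine ⟨Finsupp.single P ((genus k K : ℤ) * 2 + 1), fun Q hQ => ?_, fun a ha => ?_⟩
    · rw [Finsupp.single_eq_of_ne (fun h : Q = P => hQ (h ▸ hP))]
    · have hdeg : ((genus k K : ℤ) * 2 + 1) * P.deg > 2 * (genus k K : ℤ) - 2 := by
        have := FFLib.deg_pos hF P
        nlinarith
      refine (FFLib.SD_eq_adele hK (E := Finsupp.single P ((genus k K : ℤ) * 2 + 1)) ?_).ge ha
      rw [FFLib.ell_of_deg_gt hK (by rw [FFLib.Divisor.deg_single]; linarith)]; ring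
  refine ⟨φ, fun q => ?_, fun x => ?_⟩
  · obtain ⟨⟨a, ha⟩, rfl⟩ := Submodule.mkQ_surjective _ q
    obtain ⟨E, hE, hEt⟩ := hbig S hS
    obtain ⟨b, hb, _, ⟨z, rfl⟩, hsum⟩ := Submodule.mem_sup.mp (hEt a ha)
    let b' : Place k K → K := fun P => if P ∈ S then b P else 0
    have hb' : b' ∈ adele k K := by
      rw [FFLib.mem_adele]
      refine S.finite_toSet.subset fun Q hQ => ?_
      by_contra hne
      exact hQ (by simp [b', show Q ∉ S from hne])
    obtain ⟨E', hE', hE't⟩ := hbig T hT
    obtain ⟨c, hc, _, ⟨w, rfl⟩, hsum'⟩ := Submodule.mem_sup.mp (hE't b' hb')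
    have hcw : ∀ Q, c Q + w = b' Q := fun Q => congrFun hsum' Q
    have hw : w ∈ AdFn.SInt ((S : Set (Place k K)) ∪ T) := fun Q hQ => by
      have h1 := hcw Q
      simp only [b', if_neg (fun h : Q ∈ S => hQ (Or.inl h))] at h1
      rw [eq_neg_of_add_eq_zero_right h1, Valuation.map_neg]
      simpa [hE' Q fun h => hQ (Or.inr h)] using hc Q
    refine ⟨⟨w, hw⟩, (Submodule.Quotient.eq _).mpr ?_⟩
    show ind w - a ∈ AD (0 : Divisor k K) ⊔ LinearMap.range (diag k K)
    rw [← hsum, show ind w - (b + diag k K z) = (ind w - b) + diag k K (-z) by rw [map_neg]; abel]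
    refine Submodule.add_mem_sup (fun Q => ?_) ⟨_, rfl⟩
    rw [Finsupp.zero_apply, WithZero.exp_zero, Pi.sub_apply, hind]
    by_cases hQ : Q ∈ S
    · have h1 := hcw Q
      simp only [b', if_pos hQ] at h1
      rw [if_pos hQ, ← h1, show w - (c Q + w) = -(c Q) by ring, Valuation.map_neg]
      simpa [hE' Q (Finset.disjoint_left.1 hST hQ)] using hc Q
    · rw [if_neg hQ, zero_sub, Valuation.map_neg]
      simpa [hE Q hQ] using hb Q
  · show Submodule.Quotient.mk _ = 0 ↔ _
    rw [Submodule.Quotient.mk_eq_zero]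
    show ind x.1 ∈ AD (0 : Divisor k K) ⊔ LinearMap.range (diag k K) ↔ _
    constructor
    · intro h
      obtain ⟨c, hc, _, ⟨z, rfl⟩, hsum⟩ := Submodule.mem_sup.mp h
      have hcz : ∀ Q, c Q + z = if Q ∈ S then x.1 else 0 := fun Q => (congrFun hsum Q).trans (hind _ Q)
      have hz : z ∈ AdFn.SInt (S : Set (Place k K)) := fun Q hQ => by
        have h1 := hcz Q
        rw [if_neg (show Q ∉ S from hQ)] at h1
        rw [eq_neg_of_add_eq_zero_right h1, Valuation.map_neg]
        simpa using hc Q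
      refine ⟨z, hz, x.1 - z, fun Q hQ => ?_, by ring⟩
      by_cases hQS : Q ∈ S
      · have h1 := hcz Q
        rw [if_pos hQS] at h1
        rw [← h1, add_sub_cancel_right]
        simpa using hc Q
      · exact (Valuation.map_sub _ _ _).trans
          (max_le (x.2 Q (not_or.mpr ⟨hQS, hQ⟩)) (hz Q hQS))
    · rintro ⟨a, ha, b, hb, hx⟩
      rw [← sub_add_cancel (ind x.1) (diag k K a)]
      refine Submodule.add_mem_sup (fun Q => ?_) ⟨a, rfl⟩
      rw [Finsupp.zero_apply, WithZero.exp_zero, Pi.sub_apply, FFLib.diag_apply, hind]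
      by_cases hQ : Q ∈ S
      · rw [if_pos hQ, hx, add_sub_cancel_left]
        exact hb Q (Finset.disjoint_left.1 hST hQ)
      · rw [if_neg hQ, zero_sub, Valuation.map_neg]
        exact ha Q hQ

theorem card_adele_quotient [Finite k] (hK : IsFunctionField k K) :
    Nat.card (adele k K ⧸ ADK (0 : Divisor k K)) = Nat.card k ^ genus k K := by
  haveI := FFLib.ADK_finite hK (0 : Divisor k K)
  have h := FFLib.ADK_finrank hK (0 : Divisor k K)
  rw [FFLib.ell_zero hK, FFLib.Divisor.deg_zero] at h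
  rw [Module.natCard_eq_pow_finrank (K := k)]
  congr 1
  omega

end Groth.Agent.CurveZeta
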