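import Groth.Agent.CurveZeta.Field
import Groth.Agent.CurveZeta.TwoSets
import Groth.Agent.CurveZeta.CoverH1
import Groth.Agent.CurveFin.Main
import Groth.Agent.H23.AffineFinset
import Groth.Agent.S0217

/-! The genus of the function field is read off from `H¹(X, O)`. -/

noncomputable section

set_option linter.style.haveILetI false
set_option linter.unusedSectionVars false
set_option backward.isDefEq.respectTransparency false
set_option backward.isDefEq.respectTransparency.types false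

universe u

open CategoryTheory CategoryTheory.Limits AlgebraicGeometry TopologicalSpace Opposite
open Groth.Agent.CurveCohLib.Polar (InR gη eta_mem)

namespace Groth.Agent.CurveZeta

attribute [local instance] ffAlg

variable (k : Type u) [Field k] (X : Scheme.{u}) [X.Over (Spec (CommRingCat.of k))] [IsIntegral X]
  [IsProper (X ↘ Spec (CommRingCat.of k))] [Smooth (X ↘ Spec (CommRingCat.of k))]
  (hdim : topologicalKrullDim X = 1)

include k hdim

theorem compl_finite {U : X.Opens} (hη : genericPoint X ∈ U) : ((U : Set X)ᶜ).Finite := by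
  haveI := CurveCohLib.isNoetherian_of_proper (k := k) (X := X)
  refine CurveCohLib.finite_of_closedPoints U.isOpen.isClosed_compl fun x hx => ?_
  exact (eq_or_isClosed k X hdim x).resolve_left fun h => hx (h ▸ hη)

theorem exists_closed_in_open {U : X.Opens} (hη : genericPoint X ∈ U) :
    ∃ x : X, x ∈ U ∧ IsClosed ({x} : Set X) := by
  haveI : JacobsonSpace X := LocallyOfFiniteType.jacobsonSpace (X ↘ Spec (CommRingCat.of k))
  obtain ⟨x, hxU, hxc⟩ := nonempty_inter_closedPoints ⟨_, hη⟩ U.isOpen.isLocallyClosed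
  exact ⟨x, hxU, hxc⟩

theorem exists_cover : ∃ U V : X.Opens, IsAffineOpen U ∧ IsAffineOpen V ∧ U ⊔ V = ⊤ ∧
    genericPoint X ∈ U ∧ genericPoint X ∈ V ∧ (∃ z : Pt X, z.1 ∉ U) ∧ ∃ z : Pt X, z.1 ∉ V := by
  classical
  haveI := CurveCohLib.isNoetherian_of_proper (k := k) (X := X)
  haveI : X.IsSeparated :=
    ⟨by rw [← terminal.comp_from (X ↘ Spec (CommRingCat.of k))]; infer_instance⟩
  have hgen : ∀ z : Pt X, genericPoint X ≠ z.1 := fun z h => by
    haveI := isDVR k X hdim z.2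
    have hf : IsField (X.presheaf.stalk z.1) := h ▸ (inferInstance : Field X.functionField).toIsField
    exact IsDiscreteValuationRing.not_isField _ hf
  have hnbhd : ∀ z : Pt X, ∃ U : X.Opens, IsAffineOpen U ∧ genericPoint X ∈ U ∧ z.1 ∉ U := fun z => by
    obtain ⟨U, hU, hηU, hUz⟩ := Opens.isBasis_iff_nbhd.mp X.isBasis_affineOpens
      (U := ⟨_, z.2.isOpen_compl⟩) (x := genericPoint X) (hgen z)
    exact ⟨U, hU, hηU, fun h => hUz h rfl⟩
  obtain ⟨z₀⟩ : Nonempty (Pt X) := by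
    obtain ⟨z, -, hz⟩ := exists_closed_in_open k X hdim (U := ⊤) trivial
    exact ⟨⟨z, hz⟩⟩
  obtain ⟨U, hU, hηU, hz₀⟩ := hnbhd z₀
  have hfin := compl_finite k X hdim hηU
  -- a closed point of `U`
  obtain ⟨w, hwU⟩ : ∃ w : Pt X, w.1 ∈ U := by
    by_contra h
    push Not at h
    have hsub : (U : Set X) ⊆ {genericPoint X} := fun x hx =>
      (eq_or_isClosed k X hdim x).resolve_right fun hc => h ⟨x, hc⟩ hx
    obtain ⟨Z, hZ, hZc⟩ := exists_closed_in_open k X hdim hηU
    exact hgen ⟨Z, hZc⟩ (hsub hZ).symm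
  obtain ⟨A, hA, hAmem⟩ := S0217.result X
    (fun W _ => TopologicalSpace.NoetherianSpace.finite_irreducibleComponents) hfin.toFinset fun x hx => by
      haveI := isDVR k X hdim ((eq_or_isClosed k X hdim x).resolve_left fun h =>
        hfin.mem_toFinset.1 hx (h ▸ hηU))
      exact ⟨inferInstance, (IsPrincipalIdealRing.ringKrullDim_eq_one _
        (IsDiscreteValuationRing.not_isField _)).le⟩
  obtain ⟨g, hgO, hgF⟩ := H23.AffineFinset.exists_basicOpen_le hA ⟨_, w.2.isOpen_compl⟩ hfin.toFinset hAmem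
    fun x hx h => hfin.mem_toFinset.1 hx ((show x = w.1 from h) ▸ hwU)
  have hz₀V : z₀.1 ∈ X.basicOpen g := hgF _ (hfin.mem_toFinset.2 hz₀)
  refine ⟨U, X.basicOpen g, hU, hA.basicOpen g, eq_top_iff.2 fun x _ => ?_, hηU, eta_mem hz₀V,
    ⟨z₀, hz₀⟩, ⟨w, fun h => hgO h rfl⟩⟩
  by_cases hx : x ∈ U
  · exact Or.inl hx
  · exact Or.inr (hgF x (hfin.mem_toFinset.2 hx))

variable [GeometricallyIrreducible (X ↘ Spec (CommRingCat.of k))]

theorem card_h1 [Finite k] :
    Nat.card (Coh.HH X (Coh.structureModule X) 1) = Nat.card k ^ FunFld.genus k X.functionField := by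
  classical
  have hK := isFunctionField k X hdim
  obtain ⟨U, V, hU, hV, hUV, hηU, hηV, ⟨z₀, hz₀⟩, ⟨w, hw⟩⟩ := exists_cover k X hdim
  have hfU : {z : Pt X | z.1 ∉ U}.Finite :=
    (compl_finite k X hdim hηU).preimage Subtype.val_injective.injOn
  have hfV : {z : Pt X | z.1 ∉ V}.Finite :=
    (compl_finite k X hdim hηV).preimage Subtype.val_injective.injOn
  let S := hfU.toFinset.image (pl k X hdim)
  let T := hfV.toFinset.image (pl k X hdim)
  have hS : ∀ z, pl k X hdim z ∈ S ↔ z.1 ∉ U := fun z => by simp [S]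
  have hT : ∀ z, pl k X hdim z ∈ T ↔ z.1 ∉ V := fun z => by simp [T]
  obtain ⟨φ, hφ, hφker⟩ := exists_twoSets_hom hK S T ⟨_, (hS z₀).2 hz₀⟩ ⟨_, (hT w).2 hw⟩
    (Finset.disjoint_left.2 fun P hP hP' => by
      obtain ⟨z, rfl⟩ := (pl k X hdim).surjective P
      exact ((hUV.ge (Set.mem_univ z.1)).elim ((hS z).1 hP) ((hT z).1 hP')))
  have hqc : Coh.IsQCoh (Coh.structureModule X) := QCoh.isQCoh_structureModule
  obtain ⟨d, hd, hdker⟩ := exists_delta (Coh.toAb (Coh.structureModule X)) U V hUV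
    (QCoh.subsingleton_HU_of_isAffineOpen hqc hU 0) (QCoh.subsingleton_HU_of_isAffineOpen hqc hV 0)
  -- the values at the generic point
  have hη : genericPoint X ∈ U ⊓ V := ⟨hηU, hηV⟩
  have hval : ∀ {W : X.Opens} (hW : genericPoint X ∈ W) (R : Set (FunFld.Place k X.functionField))
      (_ : ∀ z, pl k X hdim z ∉ R ↔ z.1 ∈ W),
      (∀ r : Γ(X, W), gη hW r ∈ AdFn.SInt R) ∧ ∀ c ∈ AdFn.SInt R, ∃ r : Γ(X, W), gη hW r = c := by
    intro W hW R hR
    refine ⟨fun r v hv => ?_, fun c hc => ?_⟩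
    · obtain ⟨z, rfl⟩ := (pl k X hdim).surjective v
      refine (inR_iff k X hdim z _).1 ?_
      show InR z.1 (gη ((hR z).1 hv) r)
      exact CurveCohLib.Polar.inR_gη ((hR z).1 hv) r
    · obtain ⟨r, hr⟩ := CurveCohLib.Polar.exists_of_forall_inR (W := W) (c := c) fun z hz => by
        rcases eq_or_isClosed k X hdim z with rfl | hzc
        · exact ⟨c, algebraMap_generic X c⟩
        · exact (inR_iff k X hdim ⟨z, hzc⟩ c).2 (hc _ ((hR ⟨z, hzc⟩).2 hz))
      exact ⟨r, hr hW⟩
  have hRU : ∀ z, pl k X hdim z ∉ (S : Set (FunFld.Place k X.functionField)) ↔ z.1 ∈ U := fun z => by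
    rw [Finset.mem_coe, hS, not_not]
  have hRV : ∀ z, pl k X hdim z ∉ (T : Set (FunFld.Place k X.functionField)) ↔ z.1 ∈ V := fun z => by
    rw [Finset.mem_coe, hT, not_not]
  have hRUV : ∀ z, pl k X hdim z ∉ ((S : Set (FunFld.Place k X.functionField)) ∪ T) ↔ z.1 ∈ U ⊓ V :=
    fun z => by rw [Set.mem_union, not_or, hRU, hRV]; rfl
  let ev : Γ(X, U ⊓ V) →+ Subalgebra.toSubmodule
      (AdFn.SInt ((S : Set (FunFld.Place k X.functionField)) ∪ T)) :=
    AddMonoidHom.mk' (fun r => ⟨gη hη r, (hval hη _ hRUV).1 r⟩) fun a b => Subtype.ext (map_add _ a b)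
  let ψ : Γ(X, U ⊓ V) →+ FunFld.adele k X.functionField ⧸ FunFld.ADK (0 : FunFld.Divisor k X.functionField) :=
    φ.toAddMonoidHom.comp ev
  have hψ : Function.Surjective ψ := by
    intro q
    obtain ⟨x, rfl⟩ := hφ q
    obtain ⟨r, hr⟩ := (hval hη _ hRUV).2 x.1 x.2
    exact ⟨r, congrArg φ (Subtype.ext hr)⟩
  have hker : ∀ t : Γ(X, U ⊓ V), d t = 0 ↔ ψ t = 0 := by
    intro t
    rw [hdker]
    refine Iff.trans ?_ (hφker (ev t)).symm
    constructor
    · rintro ⟨a, b, rfl⟩
      refine ⟨gη hηU a, (hval hηU _ hRU).1 a, -gη hηV b, neg_mem ((hval hηV _ hRV).1 b), ?_⟩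
      show gη hη (_ - _) = _
      rw [map_sub, ← sub_eq_add_neg]
      exact congrArg₂ (· - ·) (CurveCohLib.Polar.gη_res inf_le_left hη hηU a)
        (CurveCohLib.Polar.gη_res inf_le_right hη hηV b)
    · rintro ⟨a, ha, b, hb, hab⟩
      obtain ⟨r, rfl⟩ := (hval hηU _ hRU).2 a ha
      obtain ⟨s, hs⟩ := (hval hηV _ hRV).2 (-b) (neg_mem hb)
      refine ⟨r, s, CurveCohLib.Polar.gη_injective hη ?_⟩
      refine (show gη hη t = _ from hab).trans ?_
      rw [map_sub]
      refine Eq.trans ?_ (congrArg₂ (· - ·) (CurveCohLib.Polar.gη_res inf_le_left hη hηU r)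
        (CurveCohLib.Polar.gη_res inf_le_right hη hηV s)).symm
      rw [hs, sub_neg_eq_add]
  rw [← card_adele_quotient hK]
  have hkk : AddMonoidHom.ker (show Γ(X, U ⊓ V) →+ _ from d) = ψ.ker := AddSubgroup.ext hker
  refine Nat.card_congr ?_
  exact ((QuotientAddGroup.quotientKerEquivOfSurjective _ hd).symm.trans
    ((QuotientAddGroup.quotientAddEquivOfEq hkk).trans
      (QuotientAddGroup.quotientKerEquivOfSurjective ψ hψ))).toEquiv

end Groth.Agent.CurveZeta
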