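import Groth.Agent.FFLib.RR

/-! Two-set description of the repartitions modulo `A(D) + K`. -/

noncomputable section

universe u

open FunFld Groth.Agent

namespace Groth.Agent.CurveZeta

variable {k K : Type u} [Field k] [Field K] [Algebra k K]

/-- Functions bounded by `D` outside `R`. -/
def LOn (D : Divisor k K) (R : Set (Place k K)) : Submodule k K where
  carrier := {x | ∀ v : Place k K, v ∉ R → v.1 x ≤ WithZero.exp (D v)}
  add_mem' {a b} ha hb v hv := (v.1.map_add a b).trans (max_le (ha v hv) (hb v hv))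
  zero_mem' v hv := by simp
  smul_mem' c a ha v hv := by
    rw [Algebra.smul_def, map_mul]; exact (mul_le_mul' (v.2.1 c) (ha v hv)).trans_eq (one_mul _)

theorem exists_twoSets_hom_div (hK : IsFunctionField k K) (D : Divisor k K) (S T : Finset (Place k K))
    (hS : S.Nonempty) (hT : T.Nonempty) (hST : Disjoint S T) :
    ∃ φ : LOn D ((S : Set (Place k K)) ∪ T) →ₗ[k] adele k K ⧸ ADK D,
      Function.Surjective φ ∧ ∀ x, φ x = 0 ↔ ∃ a ∈ LOn D (S : Set (Place k K)),
        ∃ b ∈ LOn D (T : Set (Place k K)), x.1 = a + b := by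
  classical
  have hF := hK.1
  let ind : K →ₗ[k] (Place k K → K) := LinearMap.pi fun P => if P ∈ S then LinearMap.id else 0
  have hind : ∀ (x : K) (P : Place k K), ind x P = if P ∈ S then x else 0 := fun x P => by
    by_cases h : P ∈ S <;> simp [ind, h]
  have hmemA : ∀ x : K, ind x ∈ adele k K := fun x => by
    rw [FFLib.mem_adele]
    refine S.finite_toSet.subset fun Q hQ => ?_
    by_contra hne
    exact hQ (by simp [hind, show Q ∉ S from hne])
  let φ : LOn D ((S : Set (Place k K)) ∪ T) →ₗ[k] adele k K ⧸ ADK D :=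
    (Submodule.mkQ (ADK D)).comp ((ind.codRestrict _ hmemA).comp (Submodule.subtype _))
  -- large divisors agreeing with `D` outside one of the sets
  have hbig : ∀ R : Finset (Place k K), R.Nonempty → ∃ E : Divisor k K, (∀ Q, Q ∉ R → E Q = D Q) ∧
      ∀ a ∈ adele k K, a ∈ AD E ⊔ LinearMap.range (diag k K) := by
    rintro R ⟨P, hP⟩
    refine ⟨D + Finsupp.single P ((genus k K : ℤ) * 2 + 1 + |D.deg|), fun Q hQ => ?_, fun a ha => ?_⟩
    · rw [Finsupp.add_apply, Finsupp.single_eq_of_ne (fun h : Q = P => hQ (h ▸ hP)), add_zero]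
    · have hdeg : D.deg + ((genus k K : ℤ) * 2 + 1 + |D.deg|) * P.deg > 2 * (genus k K : ℤ) - 2 := by
        have := FFLib.deg_pos hF P
        nlinarith [neg_abs_le D.deg, abs_nonneg D.deg]
      refine (FFLib.SD_eq_adele hK (E := D + Finsupp.single P ((genus k K : ℤ) * 2 + 1 + |D.deg|)) ?_).ge ha
      rw [FFLib.ell_of_deg_gt hK (by rw [FFLib.Divisor.deg_add, FFLib.Divisor.deg_single]; linarith)]; ring
  refine ⟨φ, fun q => ?_, fun x => ?_⟩
  · obtain ⟨⟨a, ha⟩, rfl⟩ := Submodule.mkQ_surjective _ q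
    obtain ⟨E, hE, hEt⟩ := hbig S hS
    obtain ⟨b, hb, _, ⟨z, rfl⟩, hsum⟩ := Submodule.mem_sup.mp (hEt a ha)
    let b' : Place k K → K := fun P => if P ∈ S then b P else 0
    have hb' : b' ∈ adele k K := by
      rw [FFLib.mem_adele]
      refine S.finite_toSet.subset fun Q hQ => ?_
      by_contra hne
      exact hQ (by simp [b', show Q ∉ S from hne])
    obtain ⟨E', hE', hE't⟩ := hbig T hT
    obtain ⟨c, hc, _, ⟨w, rfl⟩, hsum'⟩ := Submodule.mem_sup.mp (hE't b' hb')
    have hcw : ∀ Q, c Q + w = b' Q := fun Q => congrFun hsum' Q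
    have hw : w ∈ LOn D ((S : Set (Place k K)) ∪ T) := fun Q hQ => by
      have h1 := hcw Q
      simp only [b', if_neg (fun h : Q ∈ S => hQ (Or.inl h))] at h1
      rw [eq_neg_of_add_eq_zero_right h1, Valuation.map_neg, ← hE' Q fun h => hQ (Or.inr h)]
      exact hc Q
    refine ⟨⟨w, hw⟩, (Submodule.Quotient.eq _).mpr ?_⟩
    show ind w - a ∈ AD D ⊔ LinearMap.range (diag k K)
    rw [← hsum, show ind w - (b + diag k K z) = (ind w - b) + diag k K (-z) by rw [map_neg]; abel]
    refine Submodule.add_mem_sup (fun Q => ?_) ⟨_, rfl⟩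
    rw [Pi.sub_apply, hind]
    by_cases hQ : Q ∈ S
    · have h1 := hcw Q
      simp only [b', if_pos hQ] at h1
      rw [if_pos hQ, ← h1, show w - (c Q + w) = -(c Q) by ring, Valuation.map_neg,
        ← hE' Q (Finset.disjoint_left.1 hST hQ)]
      exact hc Q
    · rw [if_neg hQ, zero_sub, Valuation.map_neg, ← hE Q hQ]
      exact hb Q
  · show Submodule.Quotient.mk _ = 0 ↔ _
    rw [Submodule.Quotient.mk_eq_zero]
    show ind x.1 ∈ AD D ⊔ LinearMap.range (diag k K) ↔ _
    constructor
    · intro h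
      obtain ⟨c, hc, _, ⟨z, rfl⟩, hsum⟩ := Submodule.mem_sup.mp h
      have hcz : ∀ Q, c Q + z = if Q ∈ S then x.1 else 0 := fun Q => (congrFun hsum Q).trans (hind _ Q)
      have hz : z ∈ LOn D (S : Set (Place k K)) := fun Q hQ => by
        have h1 := hcz Q
        rw [if_neg (show Q ∉ S from hQ)] at h1
        rw [eq_neg_of_add_eq_zero_right h1, Valuation.map_neg]
        exact hc Q
      refine ⟨z, hz, x.1 - z, fun Q hQ => ?_, by ring⟩
      by_cases hQS : Q ∈ S
      · have h1 := hcz Q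
        rw [if_pos hQS] at h1
        rw [← h1, add_sub_cancel_right]
        exact hc Q
      · exact (Valuation.map_sub _ _ _).trans
          (max_le (x.2 Q (not_or.mpr ⟨hQS, hQ⟩)) (hz Q hQS))
    · rintro ⟨a, ha, b, hb, hx⟩
      rw [← sub_add_cancel (ind x.1) (diag k K a)]
      refine Submodule.add_mem_sup (fun Q => ?_) ⟨a, rfl⟩
      rw [Pi.sub_apply, FFLib.diag_apply, hind]
      by_cases hQ : Q ∈ S
      · rw [if_pos hQ, hx, add_sub_cancel_left]
        exact hb Q (Finset.disjoint_left.1 hST hQ)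
      · rw [if_neg hQ, zero_sub, Valuation.map_neg]
        exact ha Q hQ

end Groth.Agent.CurveZeta
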