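import Groth.Agent.CurveZeta.Sections
import Groth.Agent.CurveZeta.TwoSetsDiv
import Groth.Agent.CurveZeta.H1
import Groth.Agent.CurveCohLib.Proper
import Groth.Agent.Lib.CurveDeg

/-! Riemann-Roch for invertible modules on a curve over a finite field, through repartitions. -/

noncomputable section

set_option linter.style.haveILetI false
set_option linter.unusedSectionVars false
set_option backward.isDefEq.respectTransparency false
set_option backward.isDefEq.respectTransparency.types false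

universe u

open CategoryTheory CategoryTheory.Limits AlgebraicGeometry TopologicalSpace Opposite
open Groth.Agent.CurveCohLib.Polar (eta_mem)

namespace Groth.Agent.CurveZeta

attribute [local instance] ffAlg

variable (k : Type u) [Field k] {X : Scheme.{u}} [X.Over (Spec (CommRingCat.of k))] [IsIntegral X]
  [IsProper (X ↘ Spec (CommRingCat.of k))] [Smooth (X ↘ Spec (CommRingCat.of k))]
  [GeometricallyIrreducible (X ↘ Spec (CommRingCat.of k))]
  (hdim : topologicalKrullDim X = 1)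
  {M : X.Modules} (hM : PicF.IsInvertible M) {U₀ : X.Opens} {e₀ : Γ(M, U₀)}
  (he₀ : InvX.IsFrame e₀) (h₀ : genericPoint X ∈ U₀)

include k hdim hM in
theorem subsingleton_h_ge_two (i : ℕ) (hi : 2 ≤ i) : Subsingleton (Coh.HH X M i) := by
  haveI := CurveCohLib.isNoetherian_of_proper (k := k) (X := X)
  haveI : X.IsSeparated :=
    ⟨by rw [← terminal.comp_from (X ↘ Spec (CommRingCat.of k))]; infer_instance⟩
  obtain ⟨U, V, hU, hV, hUV, -⟩ := exists_cover k X hdim
  have hqc : Coh.IsQCoh M := (CurveDeg.isCoh_of_isInvertible hM).1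
  obtain ⟨n, rfl⟩ : ∃ n, i = n + 1 + 1 := ⟨i - 2, by omega⟩
  refine QCoh.Ab.subsingleton_H_of_HU_top (X := X.toPresheafedSpace.carrier) (QCoh.abSheaf M) _ ?_
  have h := QCoh.Ab.subsingleton_HU_sup (X := X.toPresheafedSpace.carrier) (QCoh.abSheaf M) U V (n + 1)
    (QCoh.subsingleton_HU_of_isAffineOpen hqc hU (n + 1)) (QCoh.subsingleton_HU_of_isAffineOpen hqc hV (n + 1))
    (QCoh.subsingleton_HU_of_isAffineOpen hqc (hU.inf hV) n)
  rwa [hUV] at h

variable [Finite k]

include he₀ h₀ in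
theorem card_h0 :
    Nat.card (Coh.HH X M 0) = Nat.card k ^ FunFld.ell (divisor k hdim hM he₀ h₀) := by
  have hK := isFunctionField k X hdim
  set D := divisor k hdim hM he₀ h₀
  haveI := FFLib.L_finite hK.1 D
  rw [FunFld.ell, ← Module.natCard_eq_pow_finrank (K := k)]
  have hη : genericPoint X ∈ (⊤ : X.Opens) := trivial
  have hmem : ∀ s : Γ(M, ⊤), co he₀ h₀ hη s ∈ FunFld.L D := fun s P => by
    obtain ⟨z, rfl⟩ := (pl k X hdim).surjective P
    exact co_bound k hdim hM he₀ h₀ hη s trivial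
  let f : Γ(M, ⊤) → FunFld.L D := fun s => ⟨_, hmem s⟩
  have hf : Function.Bijective f := ⟨fun s t h => co_injective hM he₀ h₀ hη (congrArg Subtype.val h),
    fun c => by
      obtain ⟨s, hs⟩ := exists_co k hdim hM he₀ h₀ hη fun z _ => c.2 (pl k X hdim z)
      exact ⟨s, Subtype.ext hs⟩⟩
  exact Nat.card_congr ((Sheaf.H.equiv₀ (Coh.toAb M) isTerminalTop).toEquiv.trans (Equiv.ofBijective f hf))

include he₀ h₀ in
theorem card_h1_div :
    Nat.card (Coh.HH X M 1) =
      Nat.card (FunFld.adele k X.functionField ⧸ FunFld.ADK (divisor k hdim hM he₀ h₀)) := by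
  classical
  haveI := CurveCohLib.isNoetherian_of_proper (k := k) (X := X)
  have hK := isFunctionField k X hdim
  set D := divisor k hdim hM he₀ h₀
  obtain ⟨U, V, hU, hV, hUV, hηU, hηV, ⟨z₀, hz₀⟩, ⟨w, hw⟩⟩ := exists_cover k X hdim
  have hfU : {z : Pt X | z.1 ∉ U}.Finite :=
    (compl_finite k X hdim hηU).preimage Subtype.val_injective.injOn
  have hfV : {z : Pt X | z.1 ∉ V}.Finite :=
    (compl_finite k X hdim hηV).preimage Subtype.val_injective.injOn
  let S := hfU.toFinset.image (pl k X hdim)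
  let T := hfV.toFinset.image (pl k X hdim)
  have hS : ∀ z, pl k X hdim z ∈ S ↔ z.1 ∉ U := fun z => by simp [S]
  have hT : ∀ z, pl k X hdim z ∈ T ↔ z.1 ∉ V := fun z => by simp [T]
  obtain ⟨φ, hφ, hφker⟩ := exists_twoSets_hom_div hK D S T ⟨_, (hS z₀).2 hz₀⟩ ⟨_, (hT w).2 hw⟩
    (Finset.disjoint_left.2 fun P hP hP' => by
      obtain ⟨z, rfl⟩ := (pl k X hdim).surjective P
      exact ((hUV.ge (Set.mem_univ z.1)).elim ((hS z).1 hP) ((hT z).1 hP')))
  have hqc : Coh.IsQCoh M := (CurveDeg.isCoh_of_isInvertible hM).1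
  obtain ⟨d, hd, hdker⟩ := exists_delta (Coh.toAb M) U V hUV
    (QCoh.subsingleton_HU_of_isAffineOpen hqc hU 0) (QCoh.subsingleton_HU_of_isAffineOpen hqc hV 0)
  have hη : genericPoint X ∈ U ⊓ V := ⟨hηU, hηV⟩
  have hval : ∀ {W : X.Opens} (hW : genericPoint X ∈ W) (R : Set (FunFld.Place k X.functionField))
      (_ : ∀ z, pl k X hdim z ∉ R ↔ z.1 ∈ W),
      (∀ s : Γ(M, W), co he₀ h₀ hW s ∈ LOn D R) ∧ ∀ c ∈ LOn D R, ∃ s : Γ(M, W), co he₀ h₀ hW s = c := by
    intro W hW R hR
    refine ⟨fun s v hv => ?_, fun c hc => exists_co k hdim hM he₀ h₀ hW fun z hz => hc _ ((hR z).2 hz)⟩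
    obtain ⟨z, rfl⟩ := (pl k X hdim).surjective v
    exact co_bound k hdim hM he₀ h₀ hW s ((hR z).1 hv)
  have hRU : ∀ z, pl k X hdim z ∉ (S : Set (FunFld.Place k X.functionField)) ↔ z.1 ∈ U := fun z => by
    rw [Finset.mem_coe, hS, not_not]
  have hRV : ∀ z, pl k X hdim z ∉ (T : Set (FunFld.Place k X.functionField)) ↔ z.1 ∈ V := fun z => by
    rw [Finset.mem_coe, hT, not_not]
  have hRUV : ∀ z, pl k X hdim z ∉ ((S : Set (FunFld.Place k X.functionField)) ∪ T) ↔ z.1 ∈ U ⊓ V :=
    fun z => by rw [Set.mem_union, not_or, hRU, hRV]; rfl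
  let ev : Γ(M, U ⊓ V) →+ LOn D ((S : Set (FunFld.Place k X.functionField)) ∪ T) :=
    AddMonoidHom.mk' (fun r => ⟨co he₀ h₀ hη r, (hval hη _ hRUV).1 r⟩) fun a b => Subtype.ext (map_add _ a b)
  let ψ : Γ(M, U ⊓ V) →+ FunFld.adele k X.functionField ⧸ FunFld.ADK D := φ.toAddMonoidHom.comp ev
  have hψ : Function.Surjective ψ := by
    intro q
    obtain ⟨x, rfl⟩ := hφ q
    obtain ⟨r, hr⟩ := (hval hη _ hRUV).2 x.1 x.2
    exact ⟨r, congrArg φ (Subtype.ext hr)⟩
  have hker : ∀ t : Γ(M, U ⊓ V), d t = 0 ↔ ψ t = 0 := by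
    intro t
    rw [hdker]
    refine Iff.trans ?_ (hφker (ev t)).symm
    constructor
    · rintro ⟨a, b, rfl⟩
      refine ⟨co he₀ h₀ hηU a, (hval hηU _ hRU).1 a, -co he₀ h₀ hηV b, neg_mem ((hval hηV _ hRV).1 b), ?_⟩
      show co he₀ h₀ hη (_ - _) = _
      rw [map_sub, ← sub_eq_add_neg]
      exact congrArg₂ (· - ·) (co_res he₀ h₀ inf_le_left hη a) (co_res he₀ h₀ inf_le_right hη b)
    · rintro ⟨a, ha, b, hb, hab⟩
      obtain ⟨r, rfl⟩ := (hval hηU _ hRU).2 a ha
      obtain ⟨s, hs⟩ := (hval hηV _ hRV).2 (-b) (neg_mem hb)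
      refine ⟨r, s, co_injective hM he₀ h₀ hη ?_⟩
      refine (show co he₀ h₀ hη t = _ from hab).trans ?_
      rw [map_sub]
      refine Eq.trans ?_ (congrArg₂ (· - ·) (co_res he₀ h₀ inf_le_left hη r)
        (co_res he₀ h₀ inf_le_right hη s)).symm
      rw [hs, sub_neg_eq_add]
  have hkk : AddMonoidHom.ker (show Γ(M, U ⊓ V) →+ _ from d) = ψ.ker := AddSubgroup.ext hker
  exact Nat.card_congr ((QuotientAddGroup.quotientKerEquivOfSurjective _ hd).symm.trans
    ((QuotientAddGroup.quotientAddEquivOfEq hkk).trans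
      (QuotientAddGroup.quotientKerEquivOfSurjective ψ hψ))).toEquiv

include he₀ h₀ in
theorem euler_eq :
    Curv2.euler k X M = (divisor k hdim hM he₀ h₀).deg + 1 - FunFld.genus k X.functionField := by
  haveI := CurveCohLib.isNoetherian_of_proper (k := k) (X := X)
  have hMc := CurveDeg.isCoh_of_isInvertible hM
  haveI := CurveCohLib.finite_HH (k := k) hMc 0
  haveI := CurveCohLib.finite_HH (k := k) hMc 1
  have hK := isFunctionField k X hdim
  set D := divisor k hdim hM he₀ h₀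
  haveI := FFLib.ADK_finite hK D
  have e0 := card_h0 k hdim hM he₀ h₀
  have e1 := card_h1_div k hdim hM he₀ h₀
  rw [Module.natCard_eq_pow_finrank (K := k)] at e0
  rw [Module.natCard_eq_pow_finrank (K := k) (V := Coh.HH X M 1),
    Module.natCard_eq_pow_finrank (K := k) (V := FunFld.adele k X.functionField ⧸ FunFld.ADK D)] at e1
  have f0 := Nat.pow_right_injective (Finite.one_lt_card (α := k)) e0
  have f1 := Nat.pow_right_injective (Finite.one_lt_card (α := k)) e1
  rw [CurveCohLib.euler_eq_sum (k := k) (N := 2) (subsingleton_h_ge_two k hdim hM), Finset.sum_range_succ,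
    Finset.sum_range_one, f0, f1, pow_zero, pow_one, one_mul, FFLib.ADK_finrank hK D]
  ring

theorem divisor_structure :
    ∃ (hO : PicF.IsInvertible (Coh.structureModule X)) (e : Γ(Coh.structureModule X, (⊤ : X.Opens)))
      (he : InvX.IsFrame e), divisor k hdim hO he (U₀ := ⊤) trivial = 0 := by
  refine ⟨CurveDeg.isInvertible_structureModule, (show Γ(Coh.structureModule X, (⊤ : X.Opens)) from (1 : Γ(X, ⊤))),
    ?_, Finsupp.ext fun P => ordFun_eq_zero k hdim _ _ _ (show ((pl k X hdim).symm P).1 ∈ (⊤ : X.Opens) from trivial)⟩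
  intro V hV
  refine ⟨fun r r' h => ?_, fun s => ⟨(show Γ(X, V) from s), ?_⟩⟩
  · have h' : r * X.presheaf.map (homOfLE hV).op (1 : Γ(X, ⊤)) = r' * X.presheaf.map (homOfLE hV).op (1 : Γ(X, ⊤)) := h
    rwa [map_one, mul_one, mul_one] at h'
  · show (show Γ(X, V) from s) * X.presheaf.map (homOfLE hV).op (1 : Γ(X, ⊤)) = (show Γ(X, V) from s)
    rw [map_one, mul_one]

include he₀ h₀ in
/-- The degree of an invertible module is the degree of its divisor. -/
theorem deg_eq : Curv2.deg k X M 1 = (divisor k hdim hM he₀ h₀).deg := by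
  obtain ⟨hO, e, he, h⟩ := divisor_structure k (X := X) hdim
  rw [Curv2.deg, euler_eq k hdim hM he₀ h₀, euler_eq k hdim hO he (U₀ := ⊤) trivial, h, FFLib.Divisor.deg_zero]
  push_cast
  ring

include hdim in
theorem genus_eq : Curv2.genus k X = FunFld.genus k X.functionField := by
  haveI := CurveCohLib.isNoetherian_of_proper (k := k) (X := X)
  haveI := CurveCohLib.finite_HH (k := k) (QCoh.isCoh_structureModule' (X := X)) 1
  have h := card_h1 k X hdim
  rw [Module.natCard_eq_pow_finrank (K := k)] at h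
  exact Nat.pow_right_injective (Finite.one_lt_card (α := k)) h

end Groth.Agent.CurveZeta
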