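import Groth.Agent.CurveZeta.Field
import Groth.Agent.ZetaLib.PointsOfExt
import Groth.Agent.FFLib.Weil.Euler

/-! Closed points and rational points of a curve over a finite field, through the places. -/

noncomputable section

set_option linter.style.haveILetI false
set_option linter.unusedSectionVars false
set_option backward.isDefEq.respectTransparency false
set_option backward.isDefEq.respectTransparency.types false

universe u

open CategoryTheory CategoryTheory.Limits AlgebraicGeometry TopologicalSpace Opposite
open Groth.Agent.CurveCohLib.Polar (InR)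

namespace Groth.Agent.CurveZeta

attribute [local instance] ffAlg

variable (k : Type u) [Field k] (X : Scheme.{u}) [X.Over (Spec (CommRingCat.of k))] [IsIntegral X]
  [IsProper (X ↘ Spec (CommRingCat.of k))] [Smooth (X ↘ Spec (CommRingCat.of k))]
  (hdim : topologicalKrullDim X = 1)

include hdim

/-- The local ring of a closed point is the valuation ring of its place. -/
def stalkEquiv (z : Pt X) : X.presheaf.stalk z.1 ≃+* (pl k X hdim z).O :=
  RingEquiv.ofBijective
    ((algebraMap (X.presheaf.stalk z.1) X.functionField).codRestrict (pl k X hdim z).O.toSubring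
      fun a => (inR_iff k X hdim z _).1 ⟨a, rfl⟩)
    ⟨fun a b h => IsFractionRing.injective (X.presheaf.stalk z.1) X.functionField (congrArg Subtype.val h),
      fun c => by
        obtain ⟨a, ha⟩ := (inR_iff k X hdim z c.1).2 c.2
        exact ⟨a, Subtype.ext ha⟩⟩

theorem card_residueField_pl (z : Pt X) :
    Nat.card (IsLocalRing.ResidueField (pl k X hdim z).O) = Nat.card (X.residueField z.1) :=
  (Nat.card_congr (IsLocalRing.ResidueField.mapEquiv (stalkEquiv k X hdim z)).toEquiv).symm

variable [Finite k]

theorem deg_pl (z : Pt X) :
    (pl k X hdim z).deg = EGA4loc.residueDegree (X ↘ Spec (CommRingCat.of k)) z.1 := by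
  have hc := ZetaLib.card_residueField_eq (X ↘ Spec (CommRingCat.of k)) z.2
  rw [← card_residueField_pl k X hdim z] at hc
  haveI : Finite (IsLocalRing.ResidueField (pl k X hdim z).O) := Nat.finite_of_card_ne_zero (by
    rw [hc]; exact (pow_pos Nat.card_pos _).ne')
  haveI : Module.Finite k (IsLocalRing.ResidueField (pl k X hdim z).O) := Module.Finite.of_finite
  rw [Module.natCard_eq_pow_finrank (K := k)] at hc
  exact Nat.pow_right_injective (Finite.one_lt_card (α := k)) hc

theorem degCount_eq (e : ℕ) :
    Zeta.degCount (X ↘ Spec (CommRingCat.of k)) e =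
      Nat.card {P : FunFld.Place k X.functionField // P.deg = e} := by
  refine Nat.card_congr ((Equiv.subtypeSubtypeEquivSubtypeInter (fun x : X => IsClosed ({x} : Set X))
    (fun x => EGA4loc.residueDegree (X ↘ Spec (CommRingCat.of k)) x = e)).symm.trans
      (Equiv.subtypeEquiv (pl k X hdim) fun z => ?_))
  rw [deg_pl k X hdim z]

theorem nPts_eq (n : ℕ) :
    Zeta.nPts (X ↘ Spec (CommRingCat.of k)) n = FFLib.placeCount k X.functionField n := by
  simp only [Zeta.nPts, FFLib.placeCount, degCount_eq k X hdim]

theorem pointCount_eq (k' : Type u) [Field k'] [Algebra k k'] [Finite k'] :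
    SgaExt.pointCount (X ↘ Spec (CommRingCat.of k)) k' =
      FFLib.placeCount k X.functionField (Module.finrank k k') := by
  rw [ZetaLib.pointCount_eq_nPts, nPts_eq k X hdim]

end Groth.Agent.CurveZeta
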