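import Groth.Agent.CurveZeta.Base
import Groth.Agent.GeomField.GlobalFunctions
import Groth.Agent.GrpSchLib.SmoothReduced
import Groth.Agent.FFLib.Exists

/-! The field of functions of a geometrically irreducible curve is a function field. -/

noncomputable section

set_option linter.style.haveILetI false
set_option linter.unusedSectionVars false
set_option backward.isDefEq.respectTransparency false
set_option backward.isDefEq.respectTransparency.types false

universe u

open CategoryTheory CategoryTheory.Limits AlgebraicGeometry TopologicalSpace Opposite
open Groth.Agent.CurveCohLib.Polar (InR)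

namespace Groth.Agent.CurveZeta

attribute [local instance] ffAlg GeomField.globalAlgebra

variable (k : Type u) [Field k] (X : Scheme.{u}) [X.Over (Spec (CommRingCat.of k))] [IsIntegral X]
  [IsProper (X ↘ Spec (CommRingCat.of k))] [Smooth (X ↘ Spec (CommRingCat.of k))]
  [GeometricallyIrreducible (X ↘ Spec (CommRingCat.of k))]

theorem geometricallyConnected : GeometricallyConnected (X ↘ Spec (CommRingCat.of k)) := by
  constructor
  intro L _ y P fst snd h
  haveI : IrreducibleSpace P :=
    GeometricallyIrreducible.geometrically_irreducibleSpace (f := X ↘ Spec (CommRingCat.of k)) y fst snd h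
  infer_instance

include k in
theorem toGlobal_surjective : Function.Surjective (algebraMap k Γ(X, ⊤)) := by
  haveI := GrpSchLib.geometricallyReduced_of_smooth (X ↘ Spec (CommRingCat.of k))
  haveI := geometricallyConnected k X
  have h := GeomField.finrank_globalFunctions_eq_one k X
  haveI : Nontrivial Γ(X, ⊤) := by
    haveI : Nonempty (⊤ : X.Opens) := ⟨⟨genericPoint X, trivial⟩⟩
    infer_instance
  intro r
  obtain ⟨c, hc⟩ := (finrank_eq_one_iff_of_nonzero' (1 : Γ(X, ⊤)) one_ne_zero).1 h r
  exact ⟨c, by rw [← hc, Algebra.smul_def, mul_one]⟩

variable (hdim : topologicalKrullDim X = 1)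

include hdim

theorem isFunctionField : FunFld.IsFunctionField k X.functionField := by
  refine ⟨exists_transcendental k X hdim, fun y hy => ?_⟩
  have hle : ∀ z : Pt X, (pl k X hdim z).1 y ≤ 1 := by
    intro z
    by_contra hz
    set P := pl k X hdim z
    exact FFLib.transcendental_of_val_ne_one P (fun h0 => hz (by rw [h0, map_zero]; exact zero_le_one))
      (fun e => hz e.le) hy
  obtain ⟨r, hr⟩ := CurveCohLib.Polar.exists_of_forall_inR (W := (⊤ : X.Opens))
    fun z _ => inR_all k X hdim hle z
  obtain ⟨c, hc⟩ := toGlobal_surjective k X r
  exact ⟨c, by rw [← hr (x := genericPoint X) trivial, ← hc]; rfl⟩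

end Groth.Agent.CurveZeta
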