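import Groth.Agent.CurveZeta.Cohom
import Groth.Agent.H23.PicMul
import Groth.Agent.H23.PicInv
import Groth.Agent.Lib.CurveRR
import Groth.Agent.FFLib.Numer
import Groth.Agent.FFLib.ZetaCount
import Groth.Agent.FFLib.Schmidt
import Groth.Agent.InvUfdLib.Trivial

/-! Invertible modules and divisor classes on a curve over a finite field. -/

noncomputable section

set_option linter.style.haveILetI false
set_option linter.unusedSectionVars false
set_option backward.isDefEq.respectTransparency false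
set_option backward.isDefEq.respectTransparency.types false

universe u

open CategoryTheory CategoryTheory.Limits AlgebraicGeometry TopologicalSpace Opposite
open Groth.Agent.CurveCohLib.Polar (eta_mem InR Eqns gη)

namespace Groth.Agent.CurveZeta

attribute [local instance] ffAlg

variable (k : Type u) [Field k] [Finite k] {X : Scheme.{u}} [X.Over (Spec (CommRingCat.of k))] [IsIntegral X]
  [IsProper (X ↘ Spec (CommRingCat.of k))] [Smooth (X ↘ Spec (CommRingCat.of k))]
  [GeometricallyIrreducible (X ↘ Spec (CommRingCat.of k))]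
  (hdim : topologicalKrullDim X = 1)

/-- `M` is represented by the divisor `D`. -/
def HasDiv (M : X.Modules) (D : FunFld.Divisor k X.functionField) : Prop :=
  ∃ (hM : PicF.IsInvertible M) (U₀ : X.Opens) (h₀ : genericPoint X ∈ U₀) (a : Γ(M, U₀)) (ha : InvX.IsFrame a),
    divisor k hdim hM ha h₀ = D

variable {k hdim}

theorem exists_hasDiv {M : X.Modules} (hM : PicF.IsInvertible M) : ∃ D, HasDiv k hdim M D := by
  obtain ⟨U, hU, a, ha⟩ := InvX.exists_frame hM (genericPoint X)
  exact ⟨_, hM, U, hU, a, ha, rfl⟩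

theorem HasDiv.inv {M : X.Modules} {D : FunFld.Divisor k X.functionField} (h : HasDiv k hdim M D) :
    PicF.IsInvertible M := h.choose

theorem HasDiv.congr {M N : X.Modules} {D : FunFld.Divisor k X.functionField} (h : HasDiv k hdim M D) (φ : M ≅ N) :
    HasDiv k hdim N D := by
  obtain ⟨hM, U, hU, a, ha, rfl⟩ := h
  exact ⟨H23.PicMul.isInvertible_of_iso φ hM, U, hU, _, InvX.IsFrame.map_iso φ ha,
    divisor_iso k hdim hM ha hU (H23.PicMul.isInvertible_of_iso φ hM) φ⟩

theorem divisor_res {M : X.Modules} (hM : PicF.IsInvertible M) {U₀ U₁ : X.Opens} {e₀ : Γ(M, U₀)}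
    (he₀ : InvX.IsFrame e₀) (h₀ : genericPoint X ∈ U₀) (h : U₁ ≤ U₀) (h₁ : genericPoint X ∈ U₁) :
    divisor k hdim hM (he₀.res h) h₁ = divisor k hdim hM he₀ h₀ := by
  ext P
  obtain ⟨z, rfl⟩ := (pl k X hdim).surjective P
  refine WithZero.exp_injective ?_
  have hU := eta_mem (mem_chartU hM z)
  rw [exp_divisor k hdim hM (he₀.res h) h₁ (isFrame_chartE hM z) hU (mem_chartU hM z),
    exp_divisor k hdim hM he₀ h₀ (isFrame_chartE hM z) hU (mem_chartU hM z)]
  congr 1
  refine ratio_eq (he₀.res h) ?_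
  rw [gM_res h h₁, ratio_spec]

theorem HasDiv.tensor {M N : X.Modules} {D E : FunFld.Divisor k X.functionField} (h : HasDiv k hdim M D)
    (h' : HasDiv k hdim N E) : HasDiv k hdim (CohB1.tensorMod M N) (D + E) := by
  obtain ⟨hM, U, hU, a, ha, rfl⟩ := h
  obtain ⟨hN, V, hV, b, hb, rfl⟩ := h'
  have hW : genericPoint X ∈ U ⊓ V := ⟨hU, hV⟩
  refine ⟨InvX.isInvertible_tensorMod hM hN, U ⊓ V, hW, _,
    InvX.isFrame_tmul (ha.res inf_le_left) (hb.res inf_le_right), ?_⟩
  rw [divisor_tensor k hdim hM (ha.res inf_le_left) hW hN (hb.res inf_le_right),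
    divisor_res hM ha hU inf_le_left hW, divisor_res hN hb hV inf_le_right hW]

theorem HasDiv.deg_eq {M : X.Modules} {D : FunFld.Divisor k X.functionField} (h : HasDiv k hdim M D) :
    Curv2.deg k X M 1 = D.deg := by
  obtain ⟨hM, U, hU, a, ha, rfl⟩ := h
  exact CurveZeta.deg_eq k hdim hM ha hU

variable (k hdim) in
theorem hasDiv_structure : HasDiv k hdim (Coh.structureModule X) 0 := by
  obtain ⟨hO, e, he, h⟩ := divisor_structure k (X := X) hdim
  exact ⟨hO, ⊤, trivial, e, he, h⟩

/-- Two divisors of the same module are linearly equivalent. -/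
theorem HasDiv.unique {M : X.Modules} {D D' : FunFld.Divisor k X.functionField} (h : HasDiv k hdim M D)
    (h' : HasDiv k hdim M D') : D' - D ∈ FunFld.prinDivs k X.functionField := by
  obtain ⟨hM, U, hU, a, ha, rfl⟩ := h
  obtain ⟨hM', V, hV, b, hb, rfl⟩ := h'
  have hF := (isFunctionField k X hdim).1
  rw [divisor_change k hdim hM ha hU hF hb hV]
  refine (FFLib.mem_prinDivs hF).2 ⟨_, ratio_ne_zero ha hU hb hV, ?_⟩
  abel

include hdim in
theorem deg_eq_zero_of_mem {D : FunFld.Divisor k X.functionField} (h : D ∈ FunFld.prinDivs k X.functionField) :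
    D.deg = 0 := by
  have hF := (isFunctionField k X hdim).1
  obtain ⟨z, -, rfl⟩ := (FFLib.mem_prinDivs hF).1 h
  exact FFLib.deg_div hF z

theorem HasDiv.exists_inverse {M : X.Modules} {D : FunFld.Divisor k X.functionField} (h : HasDiv k hdim M D) :
    ∃ (N : X.Modules) (E : FunFld.Divisor k X.functionField), HasDiv k hdim N E ∧
      Nonempty (CohB1.tensorMod M N ≅ Coh.structureModule X) ∧ D + E ∈ FunFld.prinDivs k X.functionField := by
  haveI := CurveCohLib.isNoetherian_of_proper (k := k) (X := X)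
  obtain ⟨N, hN, ⟨ε⟩⟩ := H23.PicInv.exists_inverse h.inv
  obtain ⟨E, hE⟩ := exists_hasDiv (k := k) (hdim := hdim) hN
  refine ⟨N, E, hE, ⟨ε⟩, ?_⟩
  have := (hasDiv_structure k hdim).unique ((h.tensor hE).congr ε)
  rwa [sub_zero] at this

theorem HasDiv.trivial_of_mem {M : X.Modules} {D : FunFld.Divisor k X.functionField} (h : HasDiv k hdim M D)
    (hD : D ∈ FunFld.prinDivs k X.functionField) : Nonempty (Coh.structureModule X ≅ M) := by
  haveI := CurveCohLib.isNoetherian_of_proper (k := k) (X := X)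
  have hK := isFunctionField k X hdim
  have hd : Curv2.deg k X M 1 = 0 := h.deg_eq.trans (deg_eq_zero_of_mem (hdim := hdim) hD)
  obtain ⟨hM, U, hU, a, ha, hDe⟩ := h
  have hne : Module.finrank k (Coh.HH X M 0) ≠ 0 := by
    intro h0
    haveI := CurveCohLib.finite_HH (k := k) (CurveDeg.isCoh_of_isInvertible hM) 0
    have hc := card_h0 k hdim hM ha hU
    rw [Module.natCard_eq_pow_finrank (K := k), h0] at hc
    have he := Nat.pow_right_injective (Finite.one_lt_card (α := k)) hc
    rw [hDe, FFLib.ell_congr hK.1 (E := 0) (by rwa [sub_zero]), FFLib.ell_zero hK] at he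
    exact zero_ne_one he
  obtain ⟨s, hs⟩ := CurveRR.exists_hom_ne_zero k hne
  haveI := (CurveDeg.deg_le_and_isIso k hdim.le CurveDeg.isInvertible_structureModule hM s hs).2
    (by rw [hd, CurveDeg.deg_structureModule])
  exact ⟨asIso s⟩

/-- Linearly equivalent divisors give isomorphic modules. -/
theorem HasDiv.nonempty_iso {M N : X.Modules} {D D' : FunFld.Divisor k X.functionField}
    (h : HasDiv k hdim M D) (h' : HasDiv k hdim N D') (hd : D - D' ∈ FunFld.prinDivs k X.functionField) :
    Nonempty (M ≅ N) := by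
  obtain ⟨N', E, hE, ⟨ε⟩, hsum⟩ := h'.exists_inverse
  obtain ⟨i⟩ := (h.tensor hE).trivial_of_mem (by
    have := add_mem hd hsum
    rwa [show D - D' + (D' + E) = D + E by abel] at this)
  letI := H23.PicMul.clMonoid X
  have e1 : PicF.cl M * PicF.cl N' = 1 := by
    rw [← H23.PicMul.cl_tensor, H23.PicMul.one_def, H23.PicMul.cl_eq_iff]; exact ⟨i.symm⟩
  have e2 : PicF.cl N * PicF.cl N' = 1 := by
    rw [← H23.PicMul.cl_tensor, H23.PicMul.one_def, H23.PicMul.cl_eq_iff]; exact ⟨ε⟩
  exact H23.PicMul.cl_eq_iff.1 (left_inv_eq_right_inv e1 ((mul_comm _ _).trans e2))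

variable (k hdim)

include hdim in
/-- The module of the divisor of a closed point. -/
theorem exists_hasDiv_single (R : Pt X) :
    ∃ M : X.Modules, HasDiv k hdim M (Finsupp.single (pl k X hdim R) 1) := by
  classical
  have hF := (isFunctionField k X hdim).1
  obtain ⟨t, ht0, ht⟩ := FFLib.exists_unif (pl k X hdim R)
  let A : X → X.functionField := fun x => if x = R.1 then t else 1
  have hA : ∀ x, A x ≠ 0 := fun x => by simp only [A]; split_ifs <;> [exact ht0; exact one_ne_zero]
  have hAR : A R.1 = t := if_pos rfl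
  have hRle : (pl k X hdim R).1 t ≤ 1 := by
    rw [ht, ← WithZero.exp_zero, WithZero.exp_le_exp]; omega
  let D : Eqns X :=
    { A := A
      ne := hA
      inR := fun x => by
        simp only [A]
        split_ifs with h
        · subst h; exact (inR_iff k X hdim R t).2 hRle
        · exact CurveCohLib.Polar.inR_one x
      loc := fun x => by
        by_cases hx : x = R.1
        · subst hx
          have hfin : {z : Pt X | z ≠ R ∧ (pl k X hdim z).ord t ≠ 0}.Finite :=
            ((FFLib.finite_support_ord hF t).preimage (pl k X hdim).injective.injOn).subset fun z hz => hz.2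
          have hcl : IsClosed (⋃ z ∈ {z : Pt X | z ≠ R ∧ (pl k X hdim z).ord t ≠ 0}, ({z.1} : Set X)) :=
            hfin.isClosed_biUnion fun z _ => z.2
          refine ⟨⟨_, hcl.isOpen_compl⟩, fun h => ?_, fun z hz => ?_⟩
          · obtain ⟨z, hz, hzR⟩ := Set.mem_iUnion₂.1 h
            exact hz.1 (Subtype.ext hzR.symm)
          · rw [hAR]
            by_cases hzR : z = R.1
            · subst hzR
              rw [hAR, div_self ht0]
              exact ⟨CurveCohLib.Polar.inR_one _, CurveCohLib.Polar.inR_one _⟩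
            · simp only [A, if_neg hzR, div_one, one_div]
              rcases eq_or_isClosed k X hdim z with rfl | hzc
              · exact ⟨⟨t, algebraMap_generic X t⟩, ⟨t⁻¹, algebraMap_generic X _⟩⟩
              have h0 : (pl k X hdim ⟨z, hzc⟩).ord t = 0 := by
                by_contra hne
                exact hz (Set.mem_iUnion₂.2 ⟨⟨z, hzc⟩, ⟨fun e => hzR (congrArg Subtype.val e), hne⟩, rfl⟩)
              have hv : (pl k X hdim ⟨z, hzc⟩).1 t = 1 := by
                rw [FFLib.val_eq_exp _ ht0, h0, neg_zero, WithZero.exp_zero]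
              refine ⟨(inR_iff k X hdim ⟨z, hzc⟩ t).2 hv.le, (inR_iff k X hdim ⟨z, hzc⟩ t⁻¹).2 ?_⟩
              rw [map_inv₀, hv, inv_one]
        · refine ⟨⟨_, R.2.isOpen_compl⟩, hx, fun z hz => ?_⟩
          simp only [A, if_neg hx, if_neg (show z ≠ R.1 from hz), div_one]
          exact ⟨CurveCohLib.Polar.inR_one _, CurveCohLib.Polar.inR_one _⟩ }
  have hηR : genericPoint X ≠ R.1 := fun h => by
    haveI := isDVR k X hdim R.2
    have hf : IsField (X.presheaf.stalk R.1) := h ▸ (inferInstance : Field X.functionField).toIsField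
    exact IsDiscreteValuationRing.not_isField _ hf
  obtain ⟨U₀, h₀, e₀, he₀, hv₀⟩ := CurveCohLib.Polar.exists_mod_frame D 1 (genericPoint X)
  have hM := CurveCohLib.Polar.isInvertible_mod D 1
  refine ⟨_, hM, U₀, h₀, e₀, he₀, Finsupp.ext fun P => ?_⟩
  obtain ⟨z, rfl⟩ := (pl k X hdim).surjective P
  obtain ⟨U, hzU, e, he, hv⟩ := CurveCohLib.Polar.exists_mod_frame D 1 z.1
  refine WithZero.exp_injective ?_
  rw [exp_divisor k hdim hM he₀ h₀ he (eta_mem hzU) hzU]
  have hW : genericPoint X ∈ U₀ ⊓ U := ⟨h₀, eta_mem hzU⟩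
  obtain ⟨r, hr, hrat⟩ := exists_coord_ratio he₀ (inf_le_left : U₀ ⊓ U ≤ U₀) hW
    (AModX.res _ (inf_le_right : U₀ ⊓ U ≤ U) e)
  have e1 : ratio he₀ h₀ (eta_mem hzU) e = X.presheaf.germ (U₀ ⊓ U) _ hW r := by
    rw [← hrat]
    exact ratio_eq he₀ (by rw [ratio_spec, gM_res])
  have e2 := congrArg (CurveCohLib.Polar.v D hW) hr
  rw [CurveCohLib.Polar.v_smul, CurveCohLib.Polar.v_res inf_le_right hW (eta_mem hzU),
    CurveCohLib.Polar.v_res inf_le_left hW h₀, hv, hv₀, pow_one, pow_one,
    show D.A (genericPoint X) = 1 from if_neg hηR, inv_one, mul_one] at e2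
  rw [e1]
  refine Eq.trans (congrArg (pl k X hdim z).1 (show (X.presheaf.germ (U₀ ⊓ U) _ hW r : X.functionField) = _
    from e2.symm)) ?_
  by_cases hz : z = R
  · subst hz
    rw [show D.A z.1 = t from hAR, Finsupp.single_eq_same, map_inv₀, ht, ← WithZero.exp_neg, neg_neg]
  · rw [show D.A z.1 = 1 from if_neg fun e => hz (Subtype.ext e), inv_one, map_one,
      Finsupp.single_eq_of_ne (fun e => hz ((pl k X hdim).injective e)), WithZero.exp_zero]

include hdim in
/-- Every divisor is the divisor of a module. -/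
theorem exists_hasDiv_of (D : FunFld.Divisor k X.functionField) :
    ∃ M D', D' - D ∈ FunFld.prinDivs k X.functionField ∧ HasDiv k hdim M D' := by
  induction D using Finsupp.induction_linear with
  | zero => exact ⟨_, 0, by rw [sub_zero]; exact zero_mem _, hasDiv_structure k hdim⟩
  | add D E hD hE =>
    obtain ⟨M, D', h1, hM⟩ := hD
    obtain ⟨N, E', h2, hN⟩ := hE
    refine ⟨_, D' + E', ?_, hM.tensor hN⟩
    have := add_mem h1 h2
    rwa [show D' - D + (E' - E) = D' + E' - (D + E) by abel] at this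
  | single P n =>
    obtain ⟨R, rfl⟩ := (pl k X hdim).surjective P
    induction n using Int.induction_on with
    | zero => exact ⟨_, 0, by simp, hasDiv_structure k hdim⟩
    | succ n ih =>
      obtain ⟨M, D', h1, hM⟩ := ih
      obtain ⟨N, hN⟩ := exists_hasDiv_single k hdim R
      refine ⟨_, _, ?_, hM.tensor hN⟩
      rwa [Finsupp.single_add, add_sub_add_right_eq_sub]
    | pred n ih =>
      obtain ⟨M, D', h1, hM⟩ := ih
      obtain ⟨N, hN⟩ := exists_hasDiv_single k hdim R
      obtain ⟨N', E', hN', -, hs⟩ := hN.exists_inverse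
      refine ⟨_, _, ?_, hM.tensor hN'⟩
      have := add_mem h1 hs
      rw [Finsupp.single_sub]
      rwa [show D' - Finsupp.single (pl k X hdim R) (-(n : ℤ)) + (Finsupp.single (pl k X hdim R) 1 + E') =
        D' + E' - (Finsupp.single (pl k X hdim R) (-(n : ℤ)) - Finsupp.single (pl k X hdim R) 1) by abel] at this

variable (X) in
/-- Classes of invertible modules of degree `m`. -/
abbrev PicD (m : ℤ) :=
  {c : PicF.Cl X // ∃ L : X.Modules, PicF.cl L = c ∧ PicF.IsInvertible L ∧ Curv2.deg k X L 1 = m}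

include hdim in
/-- Classes of modules of degree `m` are classes of divisors of degree zero. -/
theorem nonempty_equiv_pic0 (m : ℤ) : Nonempty (PicD k X m ≃ FFLib.Pic0 k X.functionField) := by
  classical
  have hK := isFunctionField k X hdim
  obtain ⟨D₁, hD₁⟩ := FFLib.exists_deg_one hK
  have hdeg : ∀ c : PicD k X m, ∃ D, D.deg = m ∧ ∃ L, PicF.cl L = c.1 ∧ HasDiv k hdim L D := fun c => by
    obtain ⟨L, hc, hL, hd⟩ := c.2
    obtain ⟨D, hD⟩ := exists_hasDiv (k := k) (hdim := hdim) hL
    exact ⟨D, hD.deg_eq.symm.trans hd, L, hc, hD⟩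
  choose Dc hdc Lc hLc hDc using hdeg
  have h0 : ∀ c, (Dc c - m • D₁).deg = 0 := fun c => by
    rw [FFLib.Divisor.deg_sub, FFLib.deg_zsmul, hdc, hD₁]; ring
  refine ⟨Equiv.ofBijective (fun c => (QuotientAddGroup.mk ⟨Dc c - m • D₁, h0 c⟩ : FFLib.Pic0 k X.functionField))
    ⟨fun c c' h => ?_, fun q => ?_⟩⟩
  · rw [FFLib.mk_eq_mk_iff, sub_sub_sub_cancel_right] at h
    apply Subtype.ext
    rw [← hLc c, ← hLc c', H23.PicMul.cl_eq_iff]
    exact (hDc c).nonempty_iso (hDc c') h
  · obtain ⟨⟨E, hE⟩, rfl⟩ := QuotientAddGroup.mk_surjective q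
    obtain ⟨M, D', h1, hM⟩ := exists_hasDiv_of k hdim (E + m • D₁)
    have hd : Curv2.deg k X M 1 = m := by
      have h2 := deg_eq_zero_of_mem (hdim := hdim) h1
      rw [FFLib.Divisor.deg_sub, FFLib.Divisor.deg_add, FFLib.deg_zsmul, FFLib.mem_ker_degHom.1 hE, hD₁] at h2
      rw [hM.deg_eq]; linarith
    refine ⟨⟨PicF.cl M, M, rfl, hM.inv, hd⟩, (FFLib.mk_eq_mk_iff (h0 _) hE).2 ?_⟩
    obtain ⟨i⟩ := H23.PicMul.cl_eq_iff.1 (hLc ⟨PicF.cl M, M, rfl, hM.inv, hd⟩)
    have h3 := hM.unique ((hDc _).congr i)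
    have := add_mem h3 h1
    convert this using 1
    abel

end Groth.Agent.CurveZeta
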