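import Groth.Agent.CurveZeta.Divisor
import Groth.Agent.FFLib.Degree

/-! Sections of an invertible module with a rational frame, as rational functions. -/

noncomputable section

set_option linter.style.haveILetI false
set_option linter.unusedSectionVars false
set_option backward.isDefEq.respectTransparency false
set_option backward.isDefEq.respectTransparency.types false

universe u

open CategoryTheory CategoryTheory.Limits AlgebraicGeometry TopologicalSpace Opposite
open Groth.Agent.CurveCohLib.Polar (InR gη eta_mem)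
open Groth.Agent.AModX (res resR)

namespace Groth.Agent.CurveZeta

attribute [local instance] ffAlg

variable (k : Type u) [Field k] {X : Scheme.{u}} [X.Over (Spec (CommRingCat.of k))] [IsIntegral X]
  [IsProper (X ↘ Spec (CommRingCat.of k))] [Smooth (X ↘ Spec (CommRingCat.of k))]
  (hdim : topologicalKrullDim X = 1)
  {M : X.Modules} (hM : PicF.IsInvertible M) {U₀ : X.Opens} {e₀ : Γ(M, U₀)}
  (he₀ : InvX.IsFrame e₀) (h₀ : genericPoint X ∈ U₀)

/-- The rational function of a section. -/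
def co {W : X.Opens} (hW : genericPoint X ∈ W) : Γ(M, W) →+ X.functionField :=
  AddMonoidHom.mk' (fun s => ratio he₀ h₀ hW s) fun a b => ratio_eq he₀ (by
    rw [map_add]
    exact (add_smul _ _ _).trans (congrArg₂ (· + ·) (ratio_spec he₀ h₀ hW a) (ratio_spec he₀ h₀ hW b)))

theorem co_res {W W' : X.Opens} (h : W' ≤ W) (hW' : genericPoint X ∈ W') (s : Γ(M, W)) :
    co he₀ h₀ hW' (res M h s) = co he₀ h₀ (h hW') s :=
  ratio_eq he₀ (by rw [gM_res]; exact ratio_spec he₀ h₀ (h hW') s)

include hM in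
theorem co_injective {W : X.Opens} (hW : genericPoint X ∈ W) : Function.Injective (co he₀ h₀ hW) :=
  fun s t h => ext_gM hM hW (by
    rw [← ratio_spec he₀ h₀ hW s, ← ratio_spec he₀ h₀ hW t]
    exact congrArg (· • gM h₀ e₀) h)

theorem co_bound {W : X.Opens} (hW : genericPoint X ∈ W) (s : Γ(M, W)) {z : Pt X} (hz : z.1 ∈ W) :
    (pl k X hdim z).1 (co he₀ h₀ hW s) ≤ WithZero.exp (divisor k hdim hM he₀ h₀ (pl k X hdim z)) := by
  have hU := eta_mem (mem_chartU hM z)
  rw [exp_divisor k hdim hM he₀ h₀ (isFrame_chartE hM z) hU (mem_chartU hM z)]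
  show (pl k X hdim z).1 (ratio he₀ h₀ hW s) ≤ _
  rw [ratio_trans he₀ h₀ (isFrame_chartE hM z) hU, map_mul]
  exact mul_le_of_le_one_left' ((inR_iff k X hdim z _).1
    (inR_ratio (isFrame_chartE hM z) hU _ s (mem_chartU hM z) hz))

theorem exists_co {W : X.Opens} (hW : genericPoint X ∈ W) {c : X.functionField}
    (hc : ∀ z : Pt X, z.1 ∈ W → (pl k X hdim z).1 c ≤ WithZero.exp (divisor k hdim hM he₀ h₀ (pl k X hdim z))) :
    ∃ s : Γ(M, W), co he₀ h₀ hW s = c := by
  have hloc : ∀ y : W, ∃ (U : X.Opens) (hy : y.1 ∈ U) (_ : U ≤ W) (s : Γ(M, U)),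
      gM (eta_mem hy) s = (show X.presheaf.stalk (genericPoint X) from c) • gM h₀ e₀ := by
    rintro ⟨y, hyW⟩
    obtain ⟨U', hy', e', he'⟩ := InvX.exists_frame hM y
    have he := he'.res (inf_le_left : U' ⊓ W ≤ U')
    have hy : y ∈ U' ⊓ W := ⟨hy', hyW⟩
    have hU := eta_mem hy
    have hall : ∀ z ∈ U' ⊓ W, InR z ((show X.presheaf.stalk (genericPoint X) from c) * ratio he hU h₀ e₀) := by
      intro z hz
      rcases eq_or_isClosed k X hdim z with rfl | hzc
      · exact ⟨_, algebraMap_generic X _⟩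
      refine (inR_iff k X hdim ⟨z, hzc⟩ _).2 ?_
      have hb := hc ⟨z, hzc⟩ hz.2
      rw [exp_divisor k hdim hM he₀ h₀ he hU (z := ⟨z, hzc⟩) hz] at hb
      rw [map_mul]
      refine (mul_le_mul_left hb _).trans_eq ?_
      rw [← map_mul, ← ratio_trans he hU he₀ h₀ hU, ratio_eq he (one_smul _ _)]
      first | exact map_one _ | skip
    obtain ⟨r, hr⟩ := CurveCohLib.Polar.exists_of_forall_inR hall
    refine ⟨U' ⊓ W, hy, inf_le_right, r • res M inf_le_left e', ?_⟩
    rw [gM_smul]
    erw [hr hy]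
    rw [mul_smul, ratio_spec]
  choose U hyU hUW s hs using hloc
  obtain ⟨T, hT, -⟩ := AModX.existsUnique_glue (M := M) (V := W) U hUW
    (fun p hp => ⟨⟨p, hp⟩, hyU ⟨p, hp⟩⟩) s fun a b => by
      rcases Set.eq_empty_or_nonempty ((U a ⊓ U b : X.Opens) : Set X) with he' | ⟨p, hp⟩
      · exact AModX.eq_of_locally _ _ fun p hp => absurd
          (show p ∈ ((U a ⊓ U b : X.Opens) : Set X) from hp) (by rw [he']; exact Set.notMem_empty p)
      refine ext_gM hM (eta_mem hp) ?_
      rw [gM_res, gM_res]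
      exact (hs a).trans (hs b).symm
  refine ⟨T, ratio_eq he₀ ?_⟩
  refine Eq.trans ?_ (gM_res (hUW ⟨_, hW⟩) (eta_mem (hyU ⟨_, hW⟩)) T)
  rw [hT ⟨_, hW⟩]
  exact (hs ⟨_, hW⟩).symm

/-- Changing the rational frame changes the divisor by a principal divisor. -/
theorem divisor_change (hF : FFLib.IsFF k X.functionField) {U₁ : X.Opens} {e₁ : Γ(M, U₁)} (he₁ : InvX.IsFrame e₁)
    (h₁ : genericPoint X ∈ U₁) :
    divisor k hdim hM he₀ h₀ =
      divisor k hdim hM he₁ h₁ - FunFld.div k (ratio he₀ h₀ h₁ e₁ : X.functionField) := by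
  ext P
  obtain ⟨z, rfl⟩ := (pl k X hdim).surjective P
  have hU := eta_mem (mem_chartU hM z)
  refine WithZero.exp_injective ?_
  have hne := ratio_ne_zero he₀ h₀ he₁ h₁
  rw [Finsupp.sub_apply, FFLib.div_apply hF, WithZero.exp_sub, div_eq_mul_inv, ← WithZero.exp_neg,
    exp_divisor k hdim hM he₀ h₀ (isFrame_chartE hM z) hU (mem_chartU hM z),
    exp_divisor k hdim hM he₁ h₁ (isFrame_chartE hM z) hU (mem_chartU hM z),
    ← FFLib.val_eq_exp _ hne, ← map_mul, ← ratio_trans he₀ h₀ he₁ h₁]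

end Groth.Agent.CurveZeta
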