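import Groth.Agent.CurveZeta.Count
import Groth.Agent.CurveZeta.H1
import Groth.Agent.FFLib.Weil.RH

/-! The Weil conjectures for a curve over a finite field. -/

noncomputable section

set_option linter.style.haveILetI false
set_option linter.unusedSectionVars false
set_option backward.isDefEq.respectTransparency false
set_option backward.isDefEq.respectTransparency.types false

universe u

open CategoryTheory AlgebraicGeometry

namespace Groth.Agent.CurveZeta

attribute [local instance] ffAlg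

/-- Reciprocal roots with all three properties. -/
theorem exists_roots {k K : Type*} [Field k] [Finite k] [Field K] [Algebra k K]
    (hK : FunFld.IsFunctionField k K) :
    ∃ α : Fin (2 * FunFld.genus k K) → ℂ, (∀ i, IsIntegral ℤ (α i)) ∧
      (∀ i, ‖α i‖ ^ 2 = (Nat.card k : ℝ)) ∧ (∀ i, α i.rev * α i = (Nat.card k : ℂ)) ∧
      ∀ n, 1 ≤ n → (FFLib.placeCount k K n : ℂ) = 1 + (Nat.card k : ℂ) ^ n - ∑ i, α i ^ n := by
  obtain ⟨α, hint, hα, hpair⟩ := FFLib.exists_reciprocal_roots hK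
  obtain ⟨β, hβ, hn⟩ := FFLib.norm_sq_root hK
  refine ⟨α, hint, fun i => ?_, fun i => by rw [mul_comm]; exact hpair i,
    fun n h => FFLib.placeCount_eq hK.1 α hα h⟩
  have hi : α i ≠ 0 := fun h0 => by
    have h := hpair i
    rw [h0, zero_mul] at h
    exact (Nat.cast_ne_zero.2 (Nat.card_pos (α := k)).ne') h.symm
  have heq := congrArg (Polynomial.eval (α i)⁻¹) (Polynomial.coe_injective ℂ (hα.symm.trans hβ))
  simp only [Polynomial.eval_prod, Polynomial.eval_sub, Polynomial.eval_one, Polynomial.eval_mul,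
    Polynomial.eval_C, Polynomial.eval_X] at heq
  rw [Finset.prod_eq_zero (Finset.mem_univ i) (by rw [mul_inv_cancel₀ hi, sub_self]), eq_comm,
    Finset.prod_eq_zero_iff] at heq
  obtain ⟨j, -, hj⟩ := heq
  rw [sub_eq_zero, eq_comm, mul_inv_eq_one₀ hi] at hj
  rw [← hj]
  exact hn j

variable (k : Type u) [Field k] [Finite k] (X : Scheme.{u}) [X.Over (Spec (CommRingCat.of k))]
  (hX : Curve.IsSmoothProperCurve k X (X ↘ Spec (CommRingCat.of k)))
  [GeometricallyIrreducible (X ↘ Spec (CommRingCat.of k))]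

include hX in
theorem weil (g : ℕ) (hg : Nat.card (Coh.HH X (Coh.structureModule X) 1) = Nat.card k ^ g) :
    ∃ α : Fin (2 * g) → ℂ, (∀ i, IsIntegral ℤ (α i)) ∧ (∀ i, ‖α i‖ ^ 2 = Nat.card k) ∧
      (∃ σ : Equiv.Perm (Fin (2 * g)), ∀ i, α (σ i) * α i = Nat.card k) ∧
      ∀ (k' : Type u) [Field k'] [Algebra k k'] [Finite k'],
        (SgaExt.pointCount (X ↘ Spec (CommRingCat.of k)) k' : ℂ) =
          (Nat.card k : ℂ) ^ Module.finrank k k' + 1 - ∑ i, α i ^ Module.finrank k k' := by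
  obtain ⟨hp, hs, hi, hdim⟩ := hX
  obtain rfl : g = FunFld.genus k X.functionField :=
    Nat.pow_right_injective (Finite.one_lt_card (α := k)) (hg.symm.trans (card_h1 k X hdim))
  obtain ⟨α, h1, h2, h3, h4⟩ := exists_roots (isFunctionField k X hdim)
  refine ⟨α, h1, h2, ⟨Fin.revPerm, h3⟩, fun k' _ _ _ => ?_⟩
  haveI : Module.Finite k k' := Module.Finite.of_finite
  rw [pointCount_eq k X hdim, h4 _ Module.finrank_pos]
  ring

theorem exists_two_coprime {k : Type u} [Field k] [Finite k] {K : Type u} [Field K] [Algebra k K]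
    (hK : FunFld.IsFunctionField k K) :
    ∃ P Q : FunFld.Place k K, Nat.Coprime P.deg Q.deg := by
  obtain ⟨α, -, hn, -, hc⟩ := exists_roots hK
  set q := Nat.card k
  have hq : 2 ≤ q := Finite.one_lt_card
  -- a place of every large prime degree
  have hbig : ∃ N : ℕ, ∀ ℓ, N ≤ ℓ → ℓ.Prime → ∃ P : FunFld.Place k K, P.deg = ℓ := by
    obtain ⟨N, hN⟩ : ∃ N : ℕ, 2 * FunFld.genus k K + (FFLib.placeCount k K 1 + 1) ≤ q ^ N :=
      ⟨_, (Nat.lt_pow_self (n := 2 * FunFld.genus k K + (FFLib.placeCount k K 1 + 1)) hq).le⟩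
    refine ⟨2 * N + 2, fun ℓ hℓ hp => ?_⟩
    by_contra hno
    push Not at hno
    haveI : IsEmpty {P : FunFld.Place k K // P.deg = ℓ} := ⟨fun P => hno P.1 P.2⟩
    have hcount : FFLib.placeCount k K ℓ = FFLib.placeCount k K 1 := by
      simp only [FFLib.placeCount, Nat.Prime.divisors hp, Finset.sum_pair hp.ne_one.symm, Nat.divisors_one,
        Finset.sum_singleton, Nat.card_of_isEmpty, mul_zero, add_zero]
    have h := hc ℓ hp.one_lt.le
    rw [hcount] at h
    set s := Real.sqrt (q : ℝ)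
    have hs : s ^ 2 = q := Real.sq_sqrt (Nat.cast_nonneg _)
    have hs1 : 1 ≤ s := Real.one_le_sqrt.2 (by exact_mod_cast (by omega : 1 ≤ q))
    have hb : ‖∑ i, α i ^ ℓ‖ ≤ 2 * (FunFld.genus k K : ℕ) * s ^ ℓ := by
      refine (norm_sum_le _ _).trans ?_
      have : ∀ i, ‖α i ^ ℓ‖ = s ^ ℓ := fun i => by
        rw [norm_pow, ← Real.sqrt_sq (norm_nonneg (α i)), hn i]
      simp only [this, Finset.sum_const, Finset.card_univ, Fintype.card_fin, nsmul_eq_mul]
      push_cast; exact le_rfl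
    have hre : (q : ℝ) ^ ℓ + 1 - (FFLib.placeCount k K 1 : ℝ) ≤ 2 * (FunFld.genus k K : ℕ) * s ^ ℓ := by
      refine le_trans ?_ ((Complex.re_le_norm _).trans hb)
      have := congrArg Complex.re h
      rw [Complex.natCast_re, Complex.sub_re, Complex.add_re, Complex.one_re, ← Nat.cast_pow,
        Complex.natCast_re, Nat.cast_pow] at this
      linarith
    rw [← hs, ← pow_mul, mul_comm 2 ℓ, pow_mul, sq] at hre
    have h1 : (q : ℝ) ^ N ≤ s ^ ℓ := by
      rw [← hs, ← pow_mul]; exact pow_le_pow_right₀ hs1 (by omega)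
    have h2 : (2 * (FunFld.genus k K : ℕ) : ℝ) + (FFLib.placeCount k K 1 + 1) ≤ (q : ℝ) ^ N := by exact_mod_cast hN
    have hp0 : (0 : ℝ) ≤ (FFLib.placeCount k K 1 : ℝ) := Nat.cast_nonneg _
    nlinarith [mul_le_mul_of_nonneg_left (h2.trans h1) (zero_le_one.trans (one_le_pow₀ hs1 (n := ℓ))),
      one_le_pow₀ (n := ℓ) hs1, mul_nonneg hp0 (sub_nonneg.2 (one_le_pow₀ (n := ℓ) hs1))]
  obtain ⟨N, hN⟩ := hbig
  obtain ⟨p, hp1, hp⟩ := Nat.exists_infinite_primes N
  obtain ⟨r, hr1, hr⟩ := Nat.exists_infinite_primes (p + 1)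
  obtain ⟨P, hP⟩ := hN p hp1 hp
  obtain ⟨Q, hQ⟩ := hN r (by omega) hr
  exact ⟨P, Q, by rw [hP, hQ]; exact (Nat.coprime_primes hp hr).2 (by omega)⟩

theorem exists_coprime_closedPoints [IsIntegral X] [IsProper (X ↘ Spec (CommRingCat.of k))]
    [Smooth (X ↘ Spec (CommRingCat.of k))] (hdim : topologicalKrullDim X = 1) :
    ∃ x y : X, IsClosed ({x} : Set X) ∧ IsClosed ({y} : Set X) ∧
      Nat.Coprime (EGA4loc.residueDegree (X ↘ Spec (CommRingCat.of k)) x)
        (EGA4loc.residueDegree (X ↘ Spec (CommRingCat.of k)) y) := by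
  obtain ⟨P, Q, h⟩ := exists_two_coprime (isFunctionField k X hdim)
  obtain ⟨x, rfl⟩ := (pl k X hdim).surjective P
  obtain ⟨y, rfl⟩ := (pl k X hdim).surjective Q
  rw [deg_pl, deg_pl] at h
  exact ⟨x.1, y.1, x.2, y.2, h⟩

end Groth.Agent.CurveZeta
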