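import Groth.Agent.CurveZeta.Count
import Groth.Agent.ZetaLib.ZetaProduct
import Groth.Agent.FFLib.Numer
import Groth.Agent.FFLib.Schmidt
import Mathlib.RingTheory.PowerSeries.Trunc

/-! The zeta function of a curve is the zeta series of its function field. -/

noncomputable section

set_option linter.style.haveILetI false
set_option linter.unusedSectionVars false
set_option backward.isDefEq.respectTransparency false
set_option backward.isDefEq.respectTransparency.types false

universe u

open CategoryTheory AlgebraicGeometry FunFld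

namespace Groth.Agent.CurveZeta

theorem hasLogDeriv_zetaZ {k K : Type*} [Field k] [Finite k] [Field K] [Algebra k K]
    (hF : FFLib.IsFF k K) :
    WeilLib.HasLogDeriv (PowerSeries.map (Int.castRingHom ℚ) (zetaZ k K))
      (PowerSeries.mk fun m => (FFLib.placeCount k K (m + 1) : ℚ)) := by
  ext n
  rw [PowerSeries.coeff_derivative, PowerSeries.coeff_map, zetaZ, PowerSeries.coeff_mk, PowerSeries.coeff_mul,
    Finset.Nat.sum_antidiagonal_eq_sum_range_succ_mk]
  have h := congrArg (Nat.cast : ℕ → ℚ) (FFLib.mul_effDivCount (k := k) (K := K) hF (n + 1))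
  push_cast at h
  simp only [PowerSeries.coeff_map, PowerSeries.coeff_mk, eq_intCast, Int.cast_natCast]
  rw [mul_comm, h, ← Finset.sum_range_reflect, ← Finset.Ico_add_one_right_eq_Icc,
    Finset.sum_Ico_eq_sum_range]
  refine Finset.sum_congr rfl fun j hj => ?_
  rw [Finset.mem_range] at hj
  rw [mul_comm]
  congr 2 <;> congr 1 <;> omega

attribute [local instance] ffAlg

variable (k : Type u) [Field k] [Finite k] (X : Scheme.{u}) [X.Over (Spec (CommRingCat.of k))] [IsIntegral X]
  [IsProper (X ↘ Spec (CommRingCat.of k))] [Smooth (X ↘ Spec (CommRingCat.of k))]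
  [GeometricallyIrreducible (X ↘ Spec (CommRingCat.of k))]
  (hdim : topologicalKrullDim X = 1)

include hdim in
theorem zetaFun_eq :
    Zeta.zetaFun (X ↘ Spec (CommRingCat.of k)) =
      PowerSeries.map (Int.castRingHom ℚ) (zetaZ k X.functionField) := by
  have hF := (isFunctionField k X hdim).1
  refine WeilLib.HasLogDeriv.unique (ZetaLib.hasLogDeriv_zetaFun _) ?_ ?_
  · convert hasLogDeriv_zetaZ hF using 2
    simp only [nPts_eq k X hdim]
  · rw [ZetaLib.constantCoeff_zetaFun, ← PowerSeries.coeff_zero_eq_constantCoeff_apply, PowerSeries.coeff_map,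
      zetaZ, PowerSeries.coeff_mk, FFLib.effDivCount_zero hF]
    simp

include hdim in
/-- The numerator as a polynomial. -/
theorem exists_numer :
    ∃ P : Polynomial ℤ, P.natDegree ≤ 2 * genus k X.functionField ∧ P.coeff 0 = 1 ∧
      (P : PowerSeries ℤ) = numerZ k X.functionField ∧
      Zeta.zetaFun (X ↘ Spec (CommRingCat.of k)) *
          ((1 - PowerSeries.X) * (1 - PowerSeries.C (Nat.card k : ℚ) * PowerSeries.X)) =
        ((P.map (Int.castRingHom ℚ) : Polynomial ℚ) : PowerSeries ℚ) := by
  have hK := isFunctionField k X hdim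
  obtain ⟨D, hD⟩ := FFLib.exists_deg_one hK
  haveI := FFLib.finite_pic0 (k := k) hK.1
  haveI := Fintype.ofFinite (FFLib.Pic0 k X.functionField)
  set g := genus k X.functionField
  refine ⟨PowerSeries.trunc (2 * g + 1) (numerZ k X.functionField),
    Nat.lt_succ_iff.1 (PowerSeries.natDegree_trunc_lt _ _), ?_, ?_, ?_⟩
  · rw [PowerSeries.coeff_trunc, if_pos (by omega), FFLib.constantCoeff_numerZ hK.1]
  · ext n
    rw [Polynomial.coeff_coe, PowerSeries.coeff_trunc]
    split_ifs with h
    · rfl
    · exact (FFLib.numerZ_vanish hK hD n (by omega)).symm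
  · rw [zetaFun_eq k X hdim]
    ext n
    have e : PowerSeries.map (Int.castRingHom ℚ) (zetaZ k X.functionField) *
        ((1 - PowerSeries.X) * (1 - PowerSeries.C (Nat.card k : ℚ) * PowerSeries.X)) =
        PowerSeries.map (Int.castRingHom ℚ) (numerZ k X.functionField) := by
      simp [numerZ]; ring
    rw [e, PowerSeries.coeff_map, Polynomial.coeff_coe, Polynomial.coeff_map, PowerSeries.coeff_trunc]
    split_ifs with h
    · rfl
    · rw [FFLib.numerZ_vanish hK hD n (by omega)]

end Groth.Agent.CurveZeta
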